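import Cfsg.Agent.H892.EP.Rows
import Cfsg.Agent.H410.RealTw
import Cfsg.Agent.H315.RatB0.SzRee

/-!
# S4929: the row of the Suzuki groups (helper710)
-/

set_option autoImplicit false

open Cfsg Cfsg.Agent.H892.EP

namespace Cfsg.Agent.H710.EP

theorem row_sz : SpRow fun K => Lie.IsoSuzuki K := by
  intro K _ _ _ h p hp hp2 hd
  have : Fact p.Prime := ⟨hp⟩
  have hcyc := fun P : Sylow p K => Cfsg.Agent.OddRank.SzTits.isCyclic_of_isPGroup h hp2 (P : Subgroup K) P.isPGroup'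
  obtain ⟨F, _, _, m, hm, hF, ⟨e⟩⟩ := h
  rw [Nat.card_congr e.toEquiv] at hd
  obtain ⟨g, hg, hr⟩ := (Cfsg.Agent.H410.RealTw.real_sz hm hF hp2 hd).congr e.symm
  exact evAt_of_real_cyclic hp2 hcyc hg hr

end Cfsg.Agent.H710.EP
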